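import Groth.Prelude.Def_W4c2filtblowupsingRees
import Mathlib.RingTheory.Valuation.Basic
import Mathlib.RingTheory.IntegralClosure.IntegrallyClosed
import Mathlib.RingTheory.Polynomial.IntegralNormalization
import Mathlib.RingTheory.Localization.FractionRing
import Mathlib.RingTheory.Polynomial.UniqueFactorization
import Mathlib.FieldTheory.RatFunc.Basic
import Mathlib.RingTheory.Polynomial.IsIntegral

/-!
# Rees algebras of valuation filtrations are integrally closed
-/

set_option autoImplicit false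

universe u

open Polynomial

namespace Groth.Agent.ReesVal95

variable {A : Type u} [CommRing A] (v : AddValuation A (WithTop ℤ)) (p : ℕ)

/-- `c` bounds all twisted values of the coefficients below. -/
def Below (f : A[X]) (c : ℤ) : Prop := ∀ n : ℕ, ((c + n * p : ℤ) : WithTop ℤ) ≤ v (f.coeff n)

/-- `c` is the least twisted value and `n₀` the largest index attaining it. -/
def Top (f : A[X]) (c : ℤ) (n₀ : ℕ) : Prop :=
  Below v p f c ∧ v (f.coeff n₀) = ((c + n₀ * p : ℤ) : WithTop ℤ) ∧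
    ∀ n, n₀ < n → ((c + n * p : ℤ) : WithTop ℤ) < v (f.coeff n)

variable {v p}

theorem below_one : Below v p 1 0 := fun n => by
  rw [coeff_one]
  split_ifs with h
  · subst h; simp
  · simp

theorem Below.mul {f g : A[X]} {c d : ℤ} (hf : Below v p f c) (hg : Below v p g d) :
    Below v p (f * g) (c + d) := fun n => by
  rw [coeff_mul]
  refine AddValuation.map_le_sum v fun x hx => ?_
  rw [Finset.mem_antidiagonal] at hx
  rw [AddValuation.map_mul]
  refine le_trans (le_of_eq ?_) (add_le_add (hf x.1) (hg x.2))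
  rw [← WithTop.coe_add, ← hx]
  refine congrArg _ ?_
  push_cast
  ring

theorem Below.pow {f : A[X]} {c : ℤ} (hf : Below v p f c) (m : ℕ) : Below v p (f ^ m) (m * c) := by
  induction m with
  | zero => simpa using below_one (v := v) (p := p)
  | succ m ih =>
    rw [pow_succ]
    convert ih.mul hf using 1
    push_cast
    ring

theorem Top.mul {f g : A[X]} {c d : ℤ} {n₀ m₀ : ℕ} (hf : Top v p f c n₀) (hg : Top v p g d m₀) :
    Top v p (f * g) (c + d) (n₀ + m₀) := by
  classical
  have hsum : ∀ a b : ℕ, ((c + a * p : ℤ) : WithTop ℤ) + ((d + b * p : ℤ) : WithTop ℤ) =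
      ((c + d + ((a + b : ℕ) : ℤ) * p : ℤ) : WithTop ℤ) := fun a b => by
    rw [← WithTop.coe_add]; exact congrArg _ (by push_cast; ring)
  have hlt : ∀ a b : ℕ, (n₀ < a ∨ m₀ < b) →
      ((c + d + ((a + b : ℕ) : ℤ) * p : ℤ) : WithTop ℤ) < v (f.coeff a) + v (g.coeff b) := by
    intro a b h
    rw [← hsum]
    rcases h with h | h
    · exact lt_of_lt_of_le (WithTop.add_lt_add_right WithTop.coe_ne_top (hf.2.2 a h))
        (add_le_add le_rfl (hg.1 b))
    · exact lt_of_lt_of_le (WithTop.add_lt_add_left WithTop.coe_ne_top (hg.2.2 b h))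
        (add_le_add (hf.1 a) le_rfl)
  refine ⟨hf.1.mul hg.1, ?_, fun n hn => ?_⟩
  · rw [coeff_mul, ← Finset.add_sum_erase _ _ (show (n₀, m₀) ∈ Finset.antidiagonal (n₀ + m₀) by simp),
      AddValuation.map_add_eq_of_lt_left, AddValuation.map_mul, hf.2.1, hg.2.1, hsum]
    rw [AddValuation.map_mul, hf.2.1, hg.2.1, hsum]
    refine AddValuation.map_lt_sum v WithTop.coe_ne_top fun x hx => ?_
    obtain ⟨hne, hx⟩ := Finset.mem_erase.1 hx
    rw [Finset.mem_antidiagonal] at hx
    rw [AddValuation.map_mul, ← hx]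
    refine hlt _ _ ?_
    by_contra hno
    push Not at hno
    exact hne (Prod.ext (by simp only; omega) (by simp only; omega))
  · rw [coeff_mul]
    refine AddValuation.map_lt_sum v WithTop.coe_ne_top fun x hx => ?_
    rw [Finset.mem_antidiagonal] at hx
    rw [AddValuation.map_mul, ← hx]
    exact hlt _ _ (by omega)

theorem Top.pow {f : A[X]} {c : ℤ} {n₀ : ℕ} (hf : Top v p f c n₀) : ∀ m : ℕ, Top v p (f ^ (m + 1)) ((m + 1) * c) ((m + 1) * n₀)
  | 0 => by simpa using hf
  | m + 1 => by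
    rw [pow_succ]
    convert (Top.pow hf m).mul hf using 1
    · push_cast; ring
    · ring

/-- A polynomial integral over a subring of polynomials with nonnegative twisted values has the same property. -/
theorem below_zero_of_isIntegral (S : Subalgebra A A[X]) (hS : ∀ f ∈ S, Below v p f 0) {y : A[X]}
    (hy : IsIntegral S y) : Below v p y 0 := by
  classical
  by_contra hne
  have hex : (y.support.filter fun n => v (y.coeff n) < ((0 + n * p : ℤ) : WithTop ℤ)).Nonempty := by
    simp only [Below, not_forall, not_le] at hne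
    obtain ⟨n, hn⟩ := hne
    refine ⟨n, Finset.mem_filter.2 ⟨mem_support_iff.2 fun h0 => ?_, hn⟩⟩
    rw [h0, AddValuation.map_zero] at hn
    exact absurd hn not_top_lt
  obtain ⟨n₁, hn₁⟩ := hex
  obtain ⟨hn₁s, hn₁lt⟩ := Finset.mem_filter.1 hn₁
  let tw : ℕ → WithTop ℤ := fun n => v (y.coeff n) + ((-(n * p : ℤ) : ℤ) : WithTop ℤ)
  obtain ⟨n₂, hn₂, hmin⟩ := Finset.exists_min_image y.support tw ⟨n₁, hn₁s⟩
  have hfin : v (y.coeff n₁) ≠ ⊤ := ne_top_of_lt hn₁lt
  obtain ⟨z₁, hz₁⟩ := WithTop.ne_top_iff_exists.1 hfin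
  have htw₂ : tw n₂ < 0 := by
    refine lt_of_le_of_lt (hmin n₁ hn₁s) ?_
    simp only [tw]
    rw [← hz₁] at hn₁lt ⊢
    rw [← WithTop.coe_add, ← WithTop.coe_zero, WithTop.coe_lt_coe]
    rw [WithTop.coe_lt_coe] at hn₁lt
    omega
  obtain ⟨c, hc⟩ := WithTop.ne_top_iff_exists.1 (ne_top_of_lt htw₂)
  have hc0 : c < 0 := by rw [← hc, ← WithTop.coe_zero, WithTop.coe_lt_coe] at htw₂; exact htw₂
  have hsupp : (y.support.filter fun n => tw n = (c : WithTop ℤ)).Nonempty := ⟨n₂, Finset.mem_filter.2 ⟨hn₂, hc.symm⟩⟩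
  obtain ⟨n₀, hn₀, hmax⟩ := Finset.exists_max_image _ (fun n => n) hsupp
  have hconv : ∀ n, (tw n = (c : WithTop ℤ) ↔ v (y.coeff n) = ((c + n * p : ℤ) : WithTop ℤ)) ∧
      ((c : WithTop ℤ) ≤ tw n ↔ ((c + n * p : ℤ) : WithTop ℤ) ≤ v (y.coeff n)) ∧
      ((c : WithTop ℤ) < tw n ↔ ((c + n * p : ℤ) : WithTop ℤ) < v (y.coeff n)) := by
    intro n
    simp only [tw]
    generalize v (y.coeff n) = w
    cases w with
    | top =>
      have h1 : ∀ z : ℤ, (⊤ : WithTop ℤ) ≠ (z : WithTop ℤ) := fun z => WithTop.top_ne_coe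
      exact ⟨by simp only [WithTop.top_add]; exact ⟨fun h => absurd h (h1 _), fun h => absurd h (h1 _)⟩,
        by simp only [WithTop.top_add]; exact ⟨fun _ => le_top, fun _ => le_top⟩,
        by simp only [WithTop.top_add]; exact ⟨fun _ => WithTop.coe_lt_top _, fun _ => WithTop.coe_lt_top _⟩⟩
    | coe w =>
      rw [← WithTop.coe_add]
      simp only [WithTop.coe_eq_coe, WithTop.coe_le_coe, WithTop.coe_lt_coe]
      omega
  have hlow : ∀ n, (c : WithTop ℤ) ≤ tw n := by
    intro n
    by_cases hn : n ∈ y.support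
    · exact hc ▸ hmin n hn
    · simp [tw, notMem_support_iff.1 hn]
  have htop : Top v p y c n₀ := ⟨fun n => ((hconv n).2.1).1 (hlow n),
    ((hconv n₀).1).1 (Finset.mem_filter.1 hn₀).2, fun n hn => by
      refine ((hconv n).2.2).1 (lt_of_le_of_ne (hlow n) fun he => ?_)
      by_cases hs : n ∈ y.support
      · exact absurd (hmax n (Finset.mem_filter.2 ⟨hs, he.symm⟩)) (not_le.2 hn)
      · simp [tw, notMem_support_iff.1 hs] at he⟩
  obtain ⟨P, hP, hPy⟩ := hy
  rcases Nat.eq_zero_or_pos P.natDegree with hd | hd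
  · rw [eq_one_of_monic_natDegree_zero hP hd, eval₂_one] at hPy
    have h0 : y = 0 := by rw [← one_mul y, hPy, zero_mul]
    subst h0
    simp at hn₁s
  obtain ⟨m, hm⟩ : ∃ m, P.natDegree = m + 1 := ⟨P.natDegree - 1, by omega⟩
  rw [eval₂_eq_sum_range, hm, Finset.sum_range_succ,
    show P.coeff (m + 1) = 1 by rw [← hm]; exact hP.coeff_natDegree, map_one, one_mul, add_comm] at hPy
  have h2 := (htop.pow m).2.1
  rw [eq_neg_of_add_eq_zero_left hPy, Polynomial.coeff_neg, AddValuation.map_neg, finsetSum_coeff] at h2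
  refine absurd h2 (ne_of_gt (AddValuation.map_lt_sum v WithTop.coe_ne_top fun j hj => ?_))
  refine lt_of_lt_of_le ?_ (((hS _ (P.coeff j).2).mul (htop.1.pow j)) ((m + 1) * n₀))
  rw [WithTop.coe_lt_coe]
  have hjm : (j : ℤ) ≤ m := by have := Finset.mem_range.1 hj; omega
  have := mul_le_mul_of_nonpos_right hjm hc0.le
  push_cast at this ⊢
  nlinarith

/-- Integral closedness of the Rees algebra of a filtration by valuations. -/
theorem isIntegrallyClosed_rees [IsDomain A] [IsIntegrallyClosed A] (𝓕 : FiltBl.IdealFiltration A)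
    {ι : Type*} (w : ι → AddValuation A (WithTop ℤ)) (e : ι → ℕ)
    (hF : ∀ (n : ℕ) (x : A), x ∈ 𝓕.F n ↔ ∀ i, ((n * e i : ℕ) : WithTop ℤ) ≤ w i x) :
    IsIntegrallyClosed 𝓕.rees := by
  rw [isIntegrallyClosed_iff (FractionRing 𝓕.rees)]
  intro x hx
  let ι₁ : 𝓕.rees →+* FractionRing A[X] := (algebraMap A[X] (FractionRing A[X])).comp 𝓕.rees.val.toRingHom
  have hι : Function.Injective ι₁ := (IsFractionRing.injective A[X] (FractionRing A[X])).comp Subtype.val_injective
  let φ : FractionRing 𝓕.rees →+* FractionRing A[X] := IsFractionRing.lift hι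
  have hφ : ∀ z, φ (algebraMap 𝓕.rees _ z) = ι₁ z := fun z => IsFractionRing.lift_algebraMap hι z
  obtain ⟨P, hP, hPx⟩ := hx
  have hroot : eval₂ (algebraMap A[X] (FractionRing A[X])) (φ x) (P.map 𝓕.rees.val.toRingHom) = 0 := by
    rw [eval₂_map, show (algebraMap A[X] (FractionRing A[X])).comp 𝓕.rees.val.toRingHom =
      φ.comp (algebraMap 𝓕.rees _) from RingHom.ext fun z => (hφ z).symm, ← hom_eval₂, hPx, map_zero]
  obtain ⟨y, hy⟩ := (isIntegrallyClosed_iff (FractionRing A[X])).1 inferInstance (x := φ x)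
    ⟨P.map 𝓕.rees.val.toRingHom, hP.map _, hroot⟩
  have hyint : IsIntegral 𝓕.rees y := by
    refine ⟨P, hP, IsFractionRing.injective A[X] (FractionRing A[X]) ?_⟩
    rw [map_zero, hom_eval₂, hy]
    rw [eval₂_map] at hroot
    exact hroot
  have hmem : y ∈ 𝓕.rees := fun n => (hF n _).2 fun i => by
    have h := below_zero_of_isIntegral (v := w i) (p := e i) 𝓕.rees (fun f hf m => by
      have := (hF m _).1 (hf m) i
      rw [zero_add, ← Nat.cast_mul]
      exact this) hyint n
    rw [zero_add, ← Nat.cast_mul] at h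
    exact h
  refine ⟨⟨y, hmem⟩, φ.injective ?_⟩
  rw [hφ, ← hy]
  rfl

end Groth.Agent.ReesVal95
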